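import Cfsg.Agent.S0344
import Cfsg.Agent.S0346
import Cfsg.Agent.S0727
import Cfsg.Agent.S0731
import Cfsg.Agent.Lib.ZassenhausSuzuki.Main
import Cfsg.Agent.Lib.PSL2.PGLHom

/-!
# The two cases of a simple Zassenhaus group

`PSL₂(F)`, or a kernel which is a non-abelian 2-group.
-/

set_option autoImplicit false

open Cfsg

namespace Cfsg.Agent.ZassenhausSimple

/-- A simple Zassenhaus group is some `PSL₂(F)`, or its kernel is a non-abelian 2-group. -/
theorem psl_or_kernel {G Ω : Type*} [Group G] [Finite G] [MulAction G Ω]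
    [Finite Ω] (hZ : Cfsg.IsZassenhausGroup G Ω) [IsSimpleGroup G] :
    (∃ (F : Type) (_ : Field F) (_ : Fintype F), Nonempty (G ≃* Matrix.ProjectiveSpecialLinearGroup (Fin 2) F)) ∨
      ∃ (a b : Ω) (H : Subgroup G), a ≠ b ∧ H ≤ MulAction.stabilizer G a ∧
        Nat.card H + 1 = Nat.card Ω ∧ (∀ u ∈ H, u ≠ 1 → ∀ c : Ω, u • c = c → c = a) ∧
        IsPGroup 2 H ∧ ∃ u v : H, u * v ≠ v * u := by
  classical
  haveI := Fintype.ofFinite Ω
  haveI := Fintype.ofFinite G
  obtain ⟨_, -, a, b, hab, -, -⟩ := hZ.2.2.2.1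
  rcases Nat.even_or_odd (Nat.card ↥(MulAction.stabilizer G a ⊓ MulAction.stabilizer G b)) with heven | hodd
  · obtain ⟨F, i1, i2, -, hiso⟩ := S0344.result hZ hab heven
    exact Or.inl ⟨F, i1, i2, hiso⟩
  obtain ⟨H, hHa, hHcard, hHfix⟩ := ZassenhausFeit.exists_kernel hZ hab
  by_cases hnab : ∃ u v : H, u * v ≠ v * u
  · refine Or.inr ?_
    obtain ⟨h2, -⟩ := ZassenhausFeit.two_group_of_perfect hZ (ZassenhausOdd.commutator_eq_top hZ) hab
      hodd hHa hHcard hHfix hnab
    exact ⟨a, b, H, hab, hHa, by rw [Nat.card_eq_fintype_card (α := Ω), hHcard], hHfix, h2, hnab⟩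
  push Not at hnab
  refine Or.inl ?_
  haveI hn : (H.subgroupOf (MulAction.stabilizer G a)).Normal :=
    ZassenhausOdd.kernel_normal hZ hab hHa hHcard hHfix
  have hreg : ∀ y z : Ω, y ≠ a → z ≠ a → ∃! u : H, (u : G) • y = z := by
    intro y z hy hz
    obtain ⟨v, hv, hvb⟩ := ZassenhausOdd.exists_kernel_smul hZ hab hHa hHcard hHfix hy
    obtain ⟨w, hw, hwb⟩ := ZassenhausOdd.exists_kernel_smul hZ hab hHa hHcard hHfix hz
    refine ⟨⟨w * v⁻¹, H.mul_mem hw (H.inv_mem hv)⟩, by simp [← hvb, mul_smul, hwb], fun u hu => ?_⟩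
    by_contra hne
    refine hy (hHfix ((u : G)⁻¹ * (w * v⁻¹)) (H.mul_mem (H.inv_mem u.2)
      (H.mul_mem hw (H.inv_mem hv))) (fun e => hne (Subtype.ext (inv_mul_eq_one.1 e))) y ?_)
    rw [← hvb, mul_smul, mul_smul, inv_smul_smul, hwb, inv_smul_eq_iff, hvb]
    exact hu.symm
  rcases S0731.result hZ a H hHa hn ⟨⟨hnab⟩⟩ hreg with ⟨h3, hsharp⟩ | ⟨F, i1, i2, -, hiso⟩
  · -- sharply triply transitive: the degree is a power of two plus one
    obtain ⟨p, f, hp, hf, hpf⟩ := S0346.result hZ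
    rw [← Nat.prime_iff] at hp
    haveI := Fact.mk hp
    have h3' := Perm.Zass.three_le hZ
    have hGcard := ZassenhausOdd.card_group hZ hab
    have hE : Nat.card ↥(ZassenhausOdd.twoStab G a b) = Fintype.card Ω - 2 := by
      refine le_antisymm (Nat.le_of_dvd (by omega) (Perm.ZassEven.card_stab_dvd hZ hab)) ?_
      obtain ⟨c, hca, hcb⟩ := Perm.Zass.exists_third hZ a b
      have hsurj : ∀ w : {w : Ω // w ≠ a ∧ w ≠ b},
          ∃ g : ↥(ZassenhausOdd.twoStab G a b), (g : G) • c = w.1 := by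
        intro w
        have inj : ∀ x : Ω, x ≠ a → x ≠ b → Function.Injective ![a, b, x] := by
          intro x hxa hxb i j
          fin_cases i <;> fin_cases j <;> simp [hab, hab.symm, hxa, hxb, hxa.symm, hxb.symm]
        haveI := h3
        obtain ⟨g, hg⟩ := MulAction.exists_smul_eq G (⟨![a, b, c], inj c hca hcb⟩ : Fin 3 ↪ Ω)
          ⟨![a, b, w.1], inj w.1 w.2.1 w.2.2⟩
        have h' : ∀ i, g • ![a, b, c] i = ![a, b, w.1] i := fun i =>
          congrArg (fun e : Fin 3 ↪ Ω => e i) hg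
        exact ⟨⟨g, h' 0, h' 1⟩, h' 2⟩
      choose s hs using hsurj
      have h := Nat.card_le_card_of_injective s fun w w' e => Subtype.ext (by rw [← hs w, ← hs w', e])
      rwa [Nat.subtype_card ((Finset.univ.erase a).erase b) (fun c => by simp [and_comm]),
        Finset.card_erase_of_mem (by simp [hab.symm]), Finset.card_erase_of_mem (Finset.mem_univ _),
        Finset.card_univ, Nat.sub_sub] at h
    have hp2 : p = 2 := by
      by_contra hp2
      have h1 : Odd (p ^ f) := (hp.odd_of_ne_two hp2).pow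
      rw [hpf] at h1
      obtain ⟨j, hj⟩ := h1
      change Odd (Nat.card ↥(ZassenhausOdd.twoStab G a b)) at hodd
      rw [hE] at hodd
      obtain ⟨l, hl⟩ := hodd
      omega
    subst hp2
    have hα : Fintype.card Ω = 2 ^ f + 1 := by omega
    haveI : FaithfulSMul G Ω := hZ.1
    let φ := MulAction.toPermHom G Ω
    have hφ : Function.Injective φ := MulAction.toPerm_injective
    have e : G ≃* φ.range := MonoidHom.ofInjective hφ
    obtain ⟨F, i1, i2, hF, ⟨hiso⟩⟩ := S0727.result hf hα φ.range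
      (Perm.isMultiplyPretransitive_of_forall fun y z hy hz => by
        haveI := h3
        obtain ⟨g, hg⟩ := MulAction.exists_smul_eq G (⟨y, hy⟩ : Fin 3 ↪ Ω) ⟨z, hz⟩
        exact ⟨⟨φ g, g, rfl⟩, fun i => congrArg (fun t : Fin 3 ↪ Ω => t i) hg⟩)
      (fun t => by
        rw [Subgroup.eq_bot_iff_forall]
        rintro ⟨-, g, rfl⟩ hg
        have hg' : g ∈ MulAction.stabilizer G t := by
          rw [MulAction.mem_stabilizer_iff] at hg ⊢
          exact Function.Embedding.ext fun i => congrArg (fun e : Fin 3 ↪ Ω => e i) hg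
        rw [hsharp t, Subgroup.mem_bot] at hg'
        exact Subtype.ext (by simp [hg']))
    refine ⟨F, i1, i2, ⟨(e.trans hiso).trans (MulEquiv.ofBijective Matrix.ProjectiveSpecialLinearGroup.toPGL
      ⟨Matrix.ProjectiveSpecialLinearGroup.toPGL_injective, ?_⟩).symm⟩⟩
    -- in characteristic two every element is a square
    refine Matrix.ProjectiveSpecialLinearGroup.toPGL_surj_of_roots fun r => ?_
    have hchar : ringChar F = 2 := FiniteField.even_card_iff_char_two.2 (by
      rw [hF]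
      exact Nat.even_iff.1 (Nat.even_pow.2 ⟨even_two, hf.ne'⟩))
    obtain ⟨s, hs⟩ := FiniteField.isSquare_of_char_two hchar (r : F)
    have hs0 : s ≠ 0 := fun e => r.ne_zero (by rw [hs, e, mul_zero])
    exact ⟨Units.mk0 s hs0, Units.ext (by rw [Fintype.card_fin, hs, pow_two]; rfl)⟩
  · exact ⟨F, i1, i2, hiso⟩

end Cfsg.Agent.ZassenhausSimple
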